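import Cfsg.Agent.H649.PwSp.Corner_m3
import Cfsg.Agent.Prune
set_option linter.all false
prune_inst 0x7f00000000000000000000000000000000000000000000000000000000000000000000000000000000000000000000000000000000000000000000000000000000000000000000000000000000000000003fffffffffffffffffffffffffffbeffbdffffffff

/-!
# `Fi22`: certificates for products of two elements of order 13 and of order 7, part 2 (helper763)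

`cert n a b x y` : the `n`-th powers of the words `x`, `y` are trivial and `x y = [a, b]`, in the 78-dimensional representation
over `F₂` (matrices of helper494; class words of helper878 / helper123).
-/

set_option autoImplicit false
set_option maxRecDepth 100000
set_option exponentiation.threshold 300000

namespace Cfsg.Agent.H763.Fi22.Pw

open Cfsg.Agent.H494.F22 (chkRel rp)
open Cfsg.Agent.H123.Cls (band chkL)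

theorem c13_20 : cert 13 [7, 1, 5] [3, 2, 4, 8] [0, 1, 2, 3, 5, 4, 8, 7] [7, 8, 4, 5, 3, 2, 1, 0, 7, 1, 5, 3, 2, 4, 8, 5, 1, 7, 8, 4, 2, 3] = true := by decide +kernel
theorem c7_20 : cert 7 [7, 1, 5] [3, 2, 4, 8] [0, 1, 2, 3, 4, 5] [5, 4, 3, 2, 1, 0, 7, 1, 5, 3, 2, 4, 8, 5, 1, 7, 8, 4, 2, 3] = true := by decide +kernel
theorem c13_21 : cert 13 [1, 4, 6] [0, 5] [1, 4, 6, 5, 7, 3, 2, 8] [8, 2, 3, 7, 5, 0, 5, 6, 4, 1, 5, 0] = true := by decide +kernel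
theorem c7_21 : cert 7 [1, 4, 6] [0, 5] [1, 4, 3, 2, 6, 5] [5, 6, 2, 3, 6, 0, 5, 6, 4, 1, 5, 0] = true := by decide +kernel
theorem c13_22 : cert 13 [1, 7, 0, 5, 2, 1] [3, 2, 6, 7, 3, 5, 4, 5, 7, 3, 4, 8] [1, 0, 3, 2, 4, 5, 8, 7] [7, 8, 5, 4, 2, 3, 0, 7, 0, 5, 2, 1, 3, 2, 6, 7, 3, 5, 4, 5, 7, 3, 4, 8, 1, 2, 5, 0, 7, 1, 8, 4, 3, 7, 5, 4, 5, 3, 7, 6, 2, 3] = true := by decide +kernel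
theorem c7_22 : cert 7 [1, 7, 0, 5, 2, 1] [3, 2, 6, 7, 3, 5, 4, 5, 7, 3, 4, 8] [0, 1, 4, 3, 2, 5] [5, 2, 3, 4, 1, 0, 1, 7, 0, 5, 2, 1, 3, 2, 6, 7, 3, 5, 4, 5, 7, 3, 4, 8, 1, 2, 5, 0, 7, 1, 8, 4, 3, 7, 5, 4, 5, 3, 7, 6, 2, 3] = true := by decide +kernel
theorem c13_23 : cert 13 [3, 6, 7, 2, 3] [5, 4, 7] [3, 2, 1, 0, 5, 4, 7, 8] [8, 7, 4, 5, 0, 1, 2, 6, 7, 2, 3, 5, 4, 7, 3, 2, 7, 6, 3, 7, 4, 5] = true := by decide +kernel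
theorem c7_23 : cert 7 [3, 6, 7, 2, 3] [5, 4, 7] [3, 6, 5, 4, 8, 7] [7, 8, 4, 5, 7, 2, 3, 5, 4, 7, 3, 2, 7, 6, 3, 7, 4, 5] = true := by decide +kernel
theorem c13_24 : cert 13 [0, 8, 3] [1, 2, 7] [0, 1, 2, 5, 8, 7, 3, 4] [4, 3, 7, 8, 5, 2, 1, 8, 3, 1, 2, 7, 3, 8, 0, 7, 2, 1] = true := by decide +kernel
theorem c7_24 : cert 7 [0, 8, 3] [1, 2, 7] [0, 1, 2, 7, 3, 8] [8, 3, 7, 2, 1, 8, 3, 1, 2, 7, 3, 8, 0, 7, 2, 1] = true := by decide +kernel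
theorem c13_25 : cert 13 [5, 2, 8] [3, 4, 6, 7] [0, 1, 2, 3, 4, 5, 8, 7] [7, 8, 5, 4, 3, 2, 1, 0, 5, 2, 8, 3, 4, 6, 7, 8, 2, 5, 7, 6, 4, 3] = true := by decide +kernel
theorem c7_25 : cert 7 [5, 2, 8] [3, 4, 6, 7] [5, 4, 6, 8, 7, 3] [3, 7, 8, 6, 4, 2, 8, 3, 4, 6, 7, 8, 2, 5, 7, 6, 4, 3] = true := by decide +kernel
theorem c13_26 : cert 13 [1, 7, 6, 3, 0] [1, 2, 4, 3, 5, 4] [1, 2, 3, 4, 5, 6, 7, 8] [8, 7, 6, 5, 4, 3, 2, 7, 6, 3, 0, 1, 2, 4, 3, 5, 4, 0, 3, 6, 7, 1, 4, 5, 3, 4, 2, 1] = true := by decide +kernel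
theorem c7_26 : cert 7 [1, 7, 6, 3, 0] [1, 2, 4, 3, 5, 4] [1, 2, 3, 4, 6, 5] [5, 6, 4, 3, 2, 7, 6, 3, 0, 1, 2, 4, 3, 5, 4, 0, 3, 6, 7, 1, 4, 5, 3, 4, 2, 1] = true := by decide +kernel
theorem c13_27 : cert 13 [5, 4, 6, 7, 0] [1, 3, 2, 6, 7, 3] [0, 1, 2, 3, 4, 5, 8, 7] [7, 8, 5, 4, 3, 2, 1, 0, 5, 4, 6, 7, 0, 1, 3, 2, 6, 7, 3, 0, 7, 6, 4, 5, 3, 7, 6, 2, 3, 1] = true := by decide +kernel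
theorem c7_27 : cert 7 [5, 4, 6, 7, 0] [1, 3, 2, 6, 7, 3] [0, 1, 2, 3, 5, 4] [4, 5, 3, 2, 1, 0, 5, 4, 6, 7, 0, 1, 3, 2, 6, 7, 3, 0, 7, 6, 4, 5, 3, 7, 6, 2, 3, 1] = true := by decide +kernel
theorem c13_28 : cert 13 [7, 5, 4, 2, 1, 3, 5, 2, 4] [0, 6, 7, 3] [7, 3, 2, 1, 4, 5, 6, 8] [8, 6, 5, 4, 1, 2, 3, 5, 4, 2, 1, 3, 5, 2, 4, 0, 6, 7, 3, 4, 2, 5, 3, 1, 2, 4, 5, 7, 3, 7, 6, 0] = true := by decide +kernel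
theorem c7_28 : cert 7 [7, 5, 4, 2, 1, 3, 5, 2, 4] [0, 6, 7, 3] [0, 2, 1, 3, 5, 4] [4, 5, 3, 1, 2, 0, 7, 5, 4, 2, 1, 3, 5, 2, 4, 0, 6, 7, 3, 4, 2, 5, 3, 1, 2, 4, 5, 7, 3, 7, 6, 0] = true := by decide +kernel
theorem c13_29 : cert 13 [5, 1, 7] [2, 3, 4] [0, 1, 2, 5, 4, 8, 7, 3] [3, 7, 8, 4, 5, 2, 1, 0, 5, 1, 7, 2, 3, 4, 7, 1, 5, 4, 3, 2] = true := by decide +kernel
theorem c7_29 : cert 7 [5, 1, 7] [2, 3, 4] [0, 1, 2, 3, 5, 4] [4, 5, 3, 2, 1, 0, 5, 1, 7, 2, 3, 4, 7, 1, 5, 4, 3, 2] = true := by decide +kernel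
theorem c13_30 : cert 13 [4, 8, 2] [1, 7, 3] [0, 2, 1, 4, 3, 5, 8, 7] [7, 8, 5, 3, 4, 1, 2, 0, 4, 8, 2, 1, 7, 3, 2, 8, 4, 3, 7, 1] = true := by decide +kernel
theorem c7_30 : cert 7 [4, 8, 2] [1, 7, 3] [0, 2, 1, 3, 8, 7] [7, 8, 3, 1, 2, 0, 4, 8, 2, 1, 7, 3, 2, 8, 4, 3, 7, 1] = true := by decide +kernel
theorem c13_31 : cert 13 [8, 5, 7, 2, 8] [1, 3, 4, 7, 3] [0, 1, 5, 4, 3, 2, 7, 8] [8, 7, 2, 3, 4, 5, 1, 0, 8, 5, 7, 2, 8, 1, 3, 4, 7, 3, 8, 2, 7, 5, 8, 3, 7, 4, 3, 1] = true := by decide +kernel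
theorem c7_31 : cert 7 [8, 5, 7, 2, 8] [1, 3, 4, 7, 3] [0, 2, 1, 4, 3, 5] [5, 3, 4, 1, 2, 0, 8, 5, 7, 2, 8, 1, 3, 4, 7, 3, 8, 2, 7, 5, 8, 3, 7, 4, 3, 1] = true := by decide +kernel
theorem c13_32 : cert 13 [3, 5, 2, 7, 0] [1, 4, 8] [3, 2, 1, 5, 4, 6, 7, 8] [8, 7, 6, 4, 5, 1, 2, 5, 2, 7, 0, 1, 4, 8, 0, 7, 2, 5, 3, 8, 4, 1] = true := by decide +kernel
theorem c7_32 : cert 7 [3, 5, 2, 7, 0] [1, 4, 8] [0, 3, 2, 1, 4, 5] [5, 4, 1, 2, 3, 0, 3, 5, 2, 7, 0, 1, 4, 8, 0, 7, 2, 5, 3, 8, 4, 1] = true := by decide +kernel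
theorem c13_33 : cert 13 [3, 5, 2] [4, 3, 6, 7] [0, 1, 2, 4, 5, 8, 7, 3] [3, 7, 8, 5, 4, 2, 1, 0, 3, 5, 2, 4, 3, 6, 7, 2, 5, 3, 7, 6, 3, 4] = true := by decide +kernel
theorem c7_33 : cert 7 [3, 5, 2] [4, 3, 6, 7] [0, 1, 2, 3, 5, 4] [4, 5, 3, 2, 1, 0, 3, 5, 2, 4, 3, 6, 7, 2, 5, 3, 7, 6, 3, 4] = true := by decide +kernel
theorem c13_34 : cert 13 [3, 2, 8, 6, 0] [1, 8, 7, 3, 4, 5] [0, 1, 2, 4, 3, 5, 7, 8] [8, 7, 5, 3, 4, 2, 1, 0, 3, 2, 8, 6, 0, 1, 8, 7, 3, 4, 5, 0, 6, 8, 2, 3, 5, 4, 3, 7, 8, 1] = true := by decide +kernel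
theorem c7_34 : cert 7 [3, 2, 8, 6, 0] [1, 8, 7, 3, 4, 5] [3, 4, 6, 5, 8, 7] [7, 8, 5, 6, 4, 2, 8, 6, 0, 1, 8, 7, 3, 4, 5, 0, 6, 8, 2, 3, 5, 4, 3, 7, 8, 1] = true := by decide +kernel
theorem c13_35 : cert 13 [7, 5, 1] [2, 4, 3] [0, 1, 5, 7, 3, 2, 4, 8] [8, 4, 2, 3, 7, 5, 1, 0, 7, 5, 1, 2, 4, 3, 1, 5, 7, 3, 4, 2] = true := by decide +kernel
theorem c7_35 : cert 7 [7, 5, 1] [2, 4, 3] [0, 1, 2, 3, 7, 8] [8, 7, 3, 2, 1, 0, 7, 5, 1, 2, 4, 3, 1, 5, 7, 3, 4, 2] = true := by decide +kernel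
theorem c13_36 : cert 13 [6, 2, 4, 3, 1, 4] [0, 5, 7, 3] [0, 1, 2, 5, 7, 3, 4, 8] [8, 4, 3, 7, 5, 2, 1, 0, 6, 2, 4, 3, 1, 4, 0, 5, 7, 3, 4, 1, 3, 4, 2, 6, 3, 7, 5, 0] = true := by decide +kernel
theorem c7_36 : cert 7 [6, 2, 4, 3, 1, 4] [0, 5, 7, 3] [0, 1, 5, 4, 3, 2] [2, 3, 4, 5, 1, 0, 6, 2, 4, 3, 1, 4, 0, 5, 7, 3, 4, 1, 3, 4, 2, 6, 3, 7, 5, 0] = true := by decide +kernel
theorem c13_37 : cert 13 [7, 5, 1] [4, 3, 2, 4, 3, 8] [0, 1, 2, 3, 4, 5, 7, 8] [8, 7, 5, 4, 3, 2, 1, 0, 7, 5, 1, 4, 3, 2, 4, 3, 8, 1, 5, 7, 8, 3, 4, 2, 3, 4] = true := by decide +kernel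
theorem c7_37 : cert 7 [7, 5, 1] [4, 3, 2, 4, 3, 8] [0, 1, 2, 8, 7, 3] [3, 7, 8, 2, 1, 0, 7, 5, 1, 4, 3, 2, 4, 3, 8, 1, 5, 7, 8, 3, 4, 2, 3, 4] = true := by decide +kernel
theorem c13_38 : cert 13 [2, 5, 8] [1, 6, 7, 3] [2, 1, 0, 5, 4, 3, 8, 7] [7, 8, 3, 4, 5, 0, 1, 5, 8, 1, 6, 7, 3, 8, 5, 2, 3, 7, 6, 1] = true := by decide +kernel
theorem c7_38 : cert 7 [2, 5, 8] [1, 6, 7, 3] [2, 1, 0, 3, 4, 3, 7, 8] [8, 7, 3, 4, 3, 0, 1, 5, 8, 1, 6, 7, 3, 8, 5, 2, 3, 7, 6, 1] = true := by decide +kernel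
theorem c13_39 : cert 13 [7, 4, 6, 0, 2] [1, 3, 5] [0, 1, 3, 2, 4, 5, 8, 7] [7, 8, 5, 4, 2, 3, 1, 0, 7, 4, 6, 0, 2, 1, 3, 5, 2, 0, 6, 4, 7, 5, 3, 1] = true := by decide +kernel
theorem c7_39 : cert 7 [7, 4, 6, 0, 2] [1, 3, 5] [0, 2, 1, 4, 3, 5] [5, 3, 4, 1, 2, 0, 7, 4, 6, 0, 2, 1, 3, 5, 2, 0, 6, 4, 7, 5, 3, 1] = true := by decide +kernel

end Cfsg.Agent.H763.Fi22.Pw
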