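import Cfsg.Agent.H649.PwSp.Corner_m3
import Cfsg.Agent.Prune
set_option linter.all false
prune_inst 0x7f00000000000000000000000000000000000000000000000000000000000000000000000000000000000000000000000000000000000000000000000000000000000000000000000000000000000000003fffffffffffffffffffffffffffbeffbdffffffff

/-!
# `Fi22`: certificates for products of two elements of order 13 and of order 7, part 3 (helper763)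

`cert n a b x y` : the `n`-th powers of the words `x`, `y` are trivial and `x y = [a, b]`, in the 78-dimensional representation
over `F₂` (matrices of helper494; class words of helper878 / helper123).
-/

set_option autoImplicit false
set_option maxRecDepth 100000
set_option exponentiation.threshold 300000

namespace Cfsg.Agent.H763.Fi22.Pw

open Cfsg.Agent.H494.F22 (chkRel rp)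
open Cfsg.Agent.H123.Cls (band chkL)

theorem c13_40 : cert 13 [2, 7, 6, 4, 7, 3, 1, 7] [0, 2, 8, 7, 3, 4, 5, 8] [2, 1, 0, 4, 3, 5, 8, 7] [7, 8, 5, 3, 4, 0, 1, 7, 6, 4, 7, 3, 1, 7, 0, 2, 8, 7, 3, 4, 5, 8, 7, 1, 3, 7, 4, 6, 7, 2, 8, 5, 4, 3, 7, 8, 2, 0] = true := by decide +kernel
theorem c7_40 : cert 7 [2, 7, 6, 4, 7, 3, 1, 7] [0, 2, 8, 7, 3, 4, 5, 8] [0, 3, 2, 1, 7, 8] [8, 7, 1, 2, 3, 0, 2, 7, 6, 4, 7, 3, 1, 7, 0, 2, 8, 7, 3, 4, 5, 8, 7, 1, 3, 7, 4, 6, 7, 2, 8, 5, 4, 3, 7, 8, 2, 0] = true := by decide +kernel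
theorem c13_41 : cert 13 [8, 2, 5] [4, 7, 3] [0, 1, 2, 3, 5, 4, 8, 7] [7, 8, 4, 5, 3, 2, 1, 0, 8, 2, 5, 4, 7, 3, 5, 2, 8, 3, 7, 4] = true := by decide +kernel
theorem c7_41 : cert 7 [8, 2, 5] [4, 7, 3] [3, 5, 4, 6, 8, 7] [7, 8, 6, 4, 5, 3, 8, 2, 5, 4, 7, 3, 5, 2, 8, 3, 7, 4] = true := by decide +kernel
theorem c13_42 : cert 13 [8, 3, 7, 0, 4, 3, 8, 5, 2, 8] [6, 7, 3, 2, 1] [0, 1, 2, 5, 4, 8, 7, 3] [3, 7, 8, 4, 5, 2, 1, 0, 8, 3, 7, 0, 4, 3, 8, 5, 2, 8, 6, 7, 3, 2, 1, 8, 2, 5, 8, 3, 4, 0, 7, 3, 8, 1, 2, 3, 7, 6] = true := by decide +kernel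
theorem c7_42 : cert 7 [8, 3, 7, 0, 4, 3, 8, 5, 2, 8] [6, 7, 3, 2, 1] [2, 1, 0, 3, 7, 8] [8, 7, 3, 0, 1, 2, 8, 3, 7, 0, 4, 3, 8, 5, 2, 8, 6, 7, 3, 2, 1, 8, 2, 5, 8, 3, 4, 0, 7, 3, 8, 1, 2, 3, 7, 6] = true := by decide +kernel
theorem c13_43 : cert 13 [7, 5, 1] [0, 4, 3, 2] [0, 2, 1, 5, 7, 3, 4, 8] [8, 4, 3, 7, 5, 1, 2, 0, 7, 5, 1, 0, 4, 3, 2, 1, 5, 7, 2, 3, 4, 0] = true := by decide +kernel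
theorem c7_43 : cert 7 [7, 5, 1] [0, 4, 3, 2] [0, 2, 1, 3, 5, 4] [4, 5, 3, 1, 2, 0, 7, 5, 1, 0, 4, 3, 2, 1, 5, 7, 2, 3, 4, 0] = true := by decide +kernel
theorem c13_44 : cert 13 [7, 5, 2, 1, 6, 3, 2, 5, 7] [1, 0, 4, 8, 7, 3, 6, 5, 4] [7, 3, 2, 1, 4, 5, 6, 8] [8, 6, 5, 4, 1, 2, 3, 5, 2, 1, 6, 3, 2, 5, 7, 1, 0, 4, 8, 7, 3, 6, 5, 4, 7, 5, 2, 3, 6, 1, 2, 5, 7, 4, 5, 6, 3, 7, 8, 4, 0, 1] = true := by decide +kernel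
theorem c7_44 : cert 7 [7, 5, 2, 1, 6, 3, 2, 5, 7] [1, 0, 4, 8, 7, 3, 6, 5, 4] [1, 3, 2, 4, 5, 6] [6, 5, 4, 2, 3, 1, 7, 5, 2, 1, 6, 3, 2, 5, 7, 1, 0, 4, 8, 7, 3, 6, 5, 4, 7, 5, 2, 3, 6, 1, 2, 5, 7, 4, 5, 6, 3, 7, 8, 4, 0, 1] = true := by decide +kernel
theorem c13_45 : cert 13 [5, 8, 2, 0] [1, 3, 4, 7] [0, 2, 1, 3, 5, 4, 8, 7] [7, 8, 4, 5, 3, 1, 2, 0, 5, 8, 2, 0, 1, 3, 4, 7, 0, 2, 8, 5, 7, 4, 3, 1] = true := by decide +kernel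
theorem c7_45 : cert 7 [5, 8, 2, 0] [1, 3, 4, 7] [0, 2, 1, 3, 4, 5] [5, 4, 3, 1, 2, 0, 5, 8, 2, 0, 1, 3, 4, 7, 0, 2, 8, 5, 7, 4, 3, 1] = true := by decide +kernel
theorem c13_46 : cert 13 [2, 8, 4, 0] [1, 7, 3, 5] [2, 1, 4, 3, 5, 6, 8, 7] [7, 8, 6, 5, 3, 4, 1, 8, 4, 0, 1, 7, 3, 5, 0, 4, 8, 2, 5, 3, 7, 1] = true := by decide +kernel
theorem c7_46 : cert 7 [2, 8, 4, 0] [1, 7, 3, 5] [0, 5, 4, 3, 2, 1] [1, 2, 3, 4, 5, 0, 2, 8, 4, 0, 1, 7, 3, 5, 0, 4, 8, 2, 5, 3, 7, 1] = true := by decide +kernel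
theorem c13_47 : cert 13 [4, 8, 0] [1, 7, 3] [4, 5, 6, 8, 7, 3, 2, 1] [1, 2, 3, 7, 8, 6, 5, 8, 0, 1, 7, 3, 0, 8, 4, 3, 7, 1] = true := by decide +kernel
theorem c7_47 : cert 7 [4, 8, 0] [1, 7, 3] [0, 1, 2, 3, 8, 7] [7, 8, 3, 2, 1, 0, 4, 8, 0, 1, 7, 3, 0, 8, 4, 3, 7, 1] = true := by decide +kernel
theorem c13_48 : cert 13 [7, 2, 2, 1, 3, 6, 8, 2] [0, 2, 7, 3, 4, 5] [0, 1, 2, 4, 3, 5, 8, 7] [7, 8, 5, 3, 4, 2, 1, 0, 7, 1, 3, 6, 8, 2, 0, 2, 7, 3, 4, 5, 2, 8, 6, 3, 1, 7, 5, 4, 3, 7, 2, 0] = true := by decide +kernel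
theorem c7_48 : cert 7 [7, 2, 2, 1, 3, 6, 8, 2] [0, 2, 7, 3, 4, 5] [0, 1, 3, 2, 5, 4] [4, 5, 2, 3, 1, 0, 7, 1, 3, 6, 8, 2, 0, 2, 7, 3, 4, 5, 2, 8, 6, 3, 1, 7, 5, 4, 3, 7, 2, 0] = true := by decide +kernel
theorem c13_49 : cert 13 [2, 5, 0, 8] [1, 4, 7, 3, 6] [2, 1, 3, 5, 4, 6, 8, 7] [7, 8, 6, 4, 5, 3, 1, 5, 0, 8, 1, 4, 7, 3, 6, 8, 0, 5, 2, 6, 3, 7, 4, 1] = true := by decide +kernel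
theorem c7_49 : cert 7 [2, 5, 0, 8] [1, 4, 7, 3, 6] [1, 2, 3, 6, 5, 4] [4, 5, 6, 3, 2, 1, 2, 5, 0, 8, 1, 4, 7, 3, 6, 8, 0, 5, 2, 6, 3, 7, 4, 1] = true := by decide +kernel
theorem c13_50 : cert 13 [1, 4, 8] [5, 7, 3, 2] [1, 4, 5, 6, 8, 7, 3, 2] [2, 3, 7, 8, 6, 5, 8, 5, 7, 3, 2, 8, 4, 1, 2, 3, 7, 5] = true := by decide +kernel
theorem c7_50 : cert 7 [1, 4, 8] [5, 7, 3, 2] [1, 0, 2, 3, 7, 8] [8, 7, 3, 2, 0, 4, 8, 5, 7, 3, 2, 8, 4, 1, 2, 3, 7, 5] = true := by decide +kernel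
theorem c13_51 : cert 13 [2, 3, 2, 5, 8, 1] [0, 4, 3, 7] [2, 1, 0, 5, 4, 8, 7, 3] [3, 7, 8, 4, 5, 0, 1, 3, 2, 5, 8, 1, 0, 4, 3, 7, 1, 8, 5, 2, 3, 2, 7, 3, 4, 0] = true := by decide +kernel
theorem c7_51 : cert 7 [2, 3, 2, 5, 8, 1] [0, 4, 3, 7] [2, 3, 2, 4, 6, 5, 7, 8] [8, 7, 5, 6, 4, 5, 8, 1, 0, 4, 3, 7, 1, 8, 5, 2, 3, 2, 7, 3, 4, 0] = true := by decide +kernel
theorem c13_52 : cert 13 [5, 1, 8, 4] [6, 7, 3, 2] [0, 1, 2, 5, 4, 3, 8, 7] [7, 8, 3, 4, 5, 2, 1, 0, 5, 1, 8, 4, 6, 7, 3, 2, 4, 8, 1, 5, 2, 3, 7, 6] = true := by decide +kernel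
theorem c7_52 : cert 7 [5, 1, 8, 4] [6, 7, 3, 2] [5, 6, 7, 3, 4, 8] [8, 4, 3, 7, 6, 1, 8, 4, 6, 7, 3, 2, 4, 8, 1, 5, 2, 3, 7, 6] = true := by decide +kernel
theorem c13_53 : cert 13 [2, 5, 0, 8] [1, 6, 7, 3] [2, 1, 4, 3, 5, 6, 8, 7] [7, 8, 6, 5, 3, 4, 1, 5, 0, 8, 1, 6, 7, 3, 8, 0, 5, 2, 3, 7, 6, 1] = true := by decide +kernel
theorem c7_53 : cert 7 [2, 5, 0, 8] [1, 6, 7, 3] [1, 2, 4, 3, 6, 5] [5, 6, 3, 4, 2, 1, 2, 5, 0, 8, 1, 6, 7, 3, 8, 0, 5, 2, 3, 7, 6, 1] = true := by decide +kernel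
theorem c13_54 : cert 13 [2, 7, 1, 8, 6, 4] [0, 5, 7, 3, 4, 7, 3] [2, 1, 0, 5, 4, 3, 8, 7] [7, 8, 3, 4, 5, 0, 1, 7, 1, 8, 6, 4, 0, 5, 7, 3, 4, 7, 3, 4, 6, 8, 1, 7, 2, 3, 7, 4, 3, 7, 5, 0] = true := by decide +kernel
theorem c7_54 : cert 7 [2, 7, 1, 8, 6, 4] [0, 5, 7, 3, 4, 7, 3] [0, 1, 3, 2, 8, 7] [7, 8, 2, 3, 1, 0, 2, 7, 1, 8, 6, 4, 0, 5, 7, 3, 4, 7, 3, 4, 6, 8, 1, 7, 2, 3, 7, 4, 3, 7, 5, 0] = true := by decide +kernel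
theorem c13_55 : cert 13 [3, 4, 2, 0, 6] [7, 3, 2, 1, 5] [0, 2, 1, 4, 5, 8, 7, 3] [3, 7, 8, 5, 4, 1, 2, 0, 3, 4, 2, 0, 6, 7, 3, 2, 1, 5, 6, 0, 2, 4, 3, 5, 1, 2, 3, 7] = true := by decide +kernel
theorem c7_55 : cert 7 [3, 4, 2, 0, 6] [7, 3, 2, 1, 5] [3, 2, 1, 0, 4, 5] [5, 4, 0, 1, 2, 4, 2, 0, 6, 7, 3, 2, 1, 5, 6, 0, 2, 4, 3, 5, 1, 2, 3, 7] = true := by decide +kernel
theorem c13_56 : cert 13 [8, 0, 2, 4, 6] [1, 5, 7, 3] [0, 2, 1, 4, 3, 5, 8, 7] [7, 8, 5, 3, 4, 1, 2, 0, 8, 0, 2, 4, 6, 1, 5, 7, 3, 6, 4, 2, 0, 8, 3, 7, 5, 1] = true := by decide +kernel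
theorem c7_56 : cert 7 [8, 0, 2, 4, 6] [1, 5, 7, 3] [1, 0, 3, 2, 7, 8] [8, 7, 2, 3, 0, 1, 8, 0, 2, 4, 6, 1, 5, 7, 3, 6, 4, 2, 0, 8, 3, 7, 5, 1] = true := by decide +kernel
theorem c13_57 : cert 13 [4, 0, 3, 6, 8, 4] [5, 7, 3, 2, 1] [0, 1, 2, 4, 5, 7, 3, 8] [8, 3, 7, 5, 4, 2, 1, 0, 4, 0, 3, 6, 8, 4, 5, 7, 3, 2, 1, 4, 8, 6, 3, 0, 4, 1, 2, 3, 7, 5] = true := by decide +kernel
theorem c7_57 : cert 7 [4, 0, 3, 6, 8, 4] [5, 7, 3, 2, 1] [4, 3, 6, 5, 7, 8] [8, 7, 5, 6, 3, 0, 3, 6, 8, 4, 5, 7, 3, 2, 1, 4, 8, 6, 3, 0, 4, 1, 2, 3, 7, 5] = true := by decide +kernel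
theorem c13_58 : cert 13 [0] [0] [0, 1, 2, 3, 4, 5, 7, 8] [8, 7, 5, 4, 3, 2, 1, 0] = true := by decide +kernel
theorem c7_58 : cert 7 [0] [0] [0, 1, 2, 3, 4, 5] [5, 4, 3, 2, 1, 0] = true := by decide +kernel

end Cfsg.Agent.H763.Fi22.Pw
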